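import Cfsg.Agent.H837.E83.NM11

/-!
# S5925 box K: the relations between the 132 arc vectors of a module of `M11` (helper732)

Letters `0, 1, 2, 3 = x, y, t, f` of `H837/E83/NM11.lean`, acting on an abelian group of exponent 3; `q` is a vector fixed by
`A = ⟨y, t, x t x⁻¹⟩` with `f q = k q` (`k = 1` or `2 = -1`) and `∑_{i ∈ {1,3,4,5,9}} x^i q = 0`.
`A a b` = the image of `q` under the elements moving `(∞, 0)` to `(a, b)`.  All linear consequences are certificates.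
-/

set_option autoImplicit false

namespace Cfsg.Agent.H732.E8T

open Cfsg.Agent.H837.E83.NM11

/-- the words of the arcs `(a, b)`, index `12 * a + b` -/
def Wt : List (List ℕ) := [
  [], [3,0,0], [3,0,0,0,0,0,0,0,0,0], [3,0,0,0,0,0,0,0,0,0,0], [3,0,0,0,0,0,0,0], [3,0,0,0,0,0,0,0,0], [3,0], [3,0,0,0,0,0], [3,0,0,0,0], [3,0,0,0,0,0,0], [3,0,0,0], [3], 
  [0,3,0,0,0], [], [0,3,0,0], [0,3,0,0,0,0,0,0,0,0,0], [0,3,0,0,0,0,0,0,0,0,0,0], [0,3,0,0,0,0,0,0,0], [0,3,0,0,0,0,0,0,0,0], [0,3,0], [0,3,0,0,0,0,0], [0,3,0,0,0,0], [0,3,0,0,0,0,0,0], [0,3], 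
  [0,0,3,0,0,0,0,0,0], [0,0,3,0,0,0], [], [0,0,3,0,0], [0,0,3,0,0,0,0,0,0,0,0,0], [0,0,3,0,0,0,0,0,0,0,0,0,0], [0,0,3,0,0,0,0,0,0,0], [0,0,3,0,0,0,0,0,0,0,0], [0,0,3,0], [0,0,3,0,0,0,0,0], [0,0,3,0,0,0,0], [0,0,3], 
  [1,0,3,0,0,0], [1,0,3,0,0,0,0,0,0,0,0,0,0], [1,0,3,0,0,0,0,0], [], [1,0,3,0,0,0,0,0,0,0], [1,0,3,0,0,0,0], [1,0,3,0,0], [1,0,3,0,0,0,0,0,0,0,0], [1,0,3,0,0,0,0,0,0], [1,0,3,0,0,0,0,0,0,0,0,0], [1,0,3,0], [1,0,3], 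
  [0,1,0,3,0], [0,1,0,3,0,0,0], [0,1,0,3,0,0,0,0,0,0,0,0,0,0], [0,1,0,3,0,0,0,0,0], [], [0,1,0,3,0,0,0,0,0,0,0], [0,1,0,3,0,0,0,0], [0,1,0,3,0,0], [0,1,0,3,0,0,0,0,0,0,0,0], [0,1,0,3,0,0,0,0,0,0], [0,1,0,3,0,0,0,0,0,0,0,0,0], [0,1,0,3], 
  [1,2,0,3,0,0,0], [1,2,0,3,0,0,0,0,0,0,0], [1,2,0,3,0], [1,2,0,3,0,0,0,0], [1,2,0,3,0,0,0,0,0,0,0,0,0,0], [], [1,2,0,3,0,0,0,0,0,0,0,0], [1,2,0,3,0,0], [1,2,0,3,0,0,0,0,0,0], [1,2,0,3,0,0,0,0,0,0,0,0,0], [1,2,0,3,0,0,0,0,0], [1,2,0,3], 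
  [3,0,3], [3,0,3,0,0], [3,0,3,0,0,0,0], [3,0,3,0,0,0,0,0,0], [3,0,3,0], [3,0,3,0,0,0,0,0], [], [3,0,3,0,0,0,0,0,0,0], [3,0,3,0,0,0,0,0,0,0,0,0,0], [3,0,3,0,0,0,0,0,0,0,0], [3,0,3,0,0,0,0,0,0,0,0,0], [3,0,3,0,0,0], 
  [1,3,0,3], [0,3,0,3], [0,3,0,3,0,0], [1,3,0,3,0,0], [1,3,0,3,0,0,0,0,0], [0,3,0,3,0], [1,3,0,3,0,0,0,0], [], [0,3,0,3,0,0,0,0,0,0,0], [1,3,0,3,0,0,0,0,0,0], [1,3,0,3,0,0,0,0,0,0,0], [0,3,0,3,0,0,0], 
  [3,0,1,0,3], [0,1,3,0,3], [0,0,3,0,3], [0,0,3,0,3,0,0], [2,0,3,0,3,0], [1,0,2,0,3,0], [0,0,3,0,3,0], [0,1,3,0,3,0,0,0,0], [], [2,0,3,0,3], [1,0,2,0,3,0,0], [1,0,2,0,3], 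
  [2,0,3,0,0,0], [2,0,3,0,0,0,0], [2,0,3,0,0,0,0,0,0,0,0], [2,0,3,0,0,0,0,0,0,0,0,0], [2,0,3,0,0,0,0,0,0,0], [2,0,3,0,0,0,0,0,0,0,0,0,0], [2,0,3,0,0], [2,0,3,0,0,0,0,0], [2,0,3,0], [], [2,0,3,0,0,0,0,0,0], [2,0,3], 
  [3,1,0,3], [0,2,0,3,0,0,0], [0,2,0,3,0,0,0,0], [3,1,0,3,0], [3,1,0,3,0,0,0,0,0,0,0,0], [3,1,0,3,0,0,0,0,0,0], [3,1,0,3,0,0,0,0,0,0,0,0,0,0], [0,2,0,3,0,0], [0,2,0,3,0,0,0,0,0], [0,2,0,3,0], [], [0,2,0,3], 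
  [], [0], [0,0], [0,0,0], [0,0,0,0], [0,0,0,0,0], [0,0,0,0,0,0], [0,0,0,0,0,0,0], [0,0,0,0,0,0,0,0], [0,0,0,0,0,0,0,0,0], [0,0,0,0,0,0,0,0,0,0], []]

def Ct0 : List (List ℕ) := [
  [], [], [], [], [], [], [], [], [], [], [], [], 
  [], [], [], [], [], [], [], [], [], [], [], [], 
  [1,1], [1,1], [], [1,1], [1,1], [1,1], [1,1], [1,1], [1,1], [1,1], [1,1], [1,1], 
  [], [], [], [], [], [], [], [], [], [], [], [], 
  [1,4,1,4], [4,2,1,1], [2,4,1,1], [4,1,2,4], [], [2,1,1,4], [4,1,1], [1,1,4,2,4], [1,1,1,4], [4,2,4,2], [2,1,1], [2,4,2,4], 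
  [1,2,4,1,1], [1,4,2,1,1], [2,1,2,4], [1,2,4,2,4], [1,4,2,4,2], [], [1,4,1,1], [2,1], [4,2,1], [4,1], [2,4,1], [2,1,4], 
  [], [], [2,4,1,2], [1,1,2,4], [], [1,4,2,1,2], [], [], [4,1,1,1], [1,1,2], [1,1,4,2], [], 
  [], [], [], [1,4,2,4], [1,4,2,1,2], [], [], [], [2,4], [1,1,2,4], [4,2,4,2], [4,2,1], 
  [2,4,2,4], [], [4,1,4], [4,2,1,2,4], [1,1,4,2], [1,4,2,1,2], [1,4,2,4], [], [], [1,1,2], [1,1,2,4], [2,4,1,2], 
  [], [], [4,1,4], [1,4,2,4], [4,1,1,1], [4,2,1,2,4], [], [], [], [], [1,1,4,2], [], 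
  [1,4,2,4,1], [2,1,1], [2,4,1,1], [2,4,2], [1,2,4,2,1], [1,2], [4,2,4], [1,1,1,4], [2,4,2,4], [2,1,1,4], [], [4,2,4,2], 
  [], [], [], [], [], [], [], [], [], [], [], []]

def Ct1 : List (List ℕ) := [
  [], [1,1,1], [1,1,1], [1,1,1], [1,1,1], [1,1,1], [1,1,1], [1,1,1], [1,1,1], [1,1,1], [1,1,1], [1,1,1], 
  [], [], [], [], [], [], [], [], [], [], [], [], 
  [4,1,4], [1,1,2], [], [1,1,4], [1,2,4,2], [2,4,1,2], [1,4,2,4], [4,2,1,2,4], [1,1,2,4], [4,1,1,1], [1,1,4,2], [1,4,2,1,2], 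
  [1,1,2], [2,4,1,2], [4,1,1,1], [], [1,4,2,4], [1,1,4,2], [1,1,4], [4,2,1,2,4], [4,1,4], [1,2,4,2], [1,1,2,4], [1,4,2,1,2], 
  [1], [1], [1], [1], [], [1], [1], [1], [1], [1], [1], [1], 
  [1,2], [4,2,4], [1,2,4], [1,4,2], [1,1,4,1], [], [1,4,2,4,1], [1,4], [4,1,2], [2,4,2], [1,2,4,2,1], [4,2,1,2], 
  [], [], [], [], [4,2,1,2,4], [], [], [], [4,1,4], [1,1,4,2], [4,1,1,1], [2,4,1,2], 
  [], [4,1,4], [4,2,1,2,4], [1,2,4,2], [1,1,2,4], [1,4,2,4], [1,4,2,1,2], [], [], [], [1,1,2], [], 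
  [1,2,4], [1,4,2,4,1], [4,2,1,1], [4,1,2,4], [1,2,4], [2,1,4], [4,1,1], [1,2,4], [], [4,2,1,2], [2,1,2,4], [1,4,2,4,2], 
  [], [], [], [], [], [], [], [], [], [], [], [], 
  [2,1,2], [1,2,4,1,1], [1,2,4,2,4], [4,1,2], [2,4,1], [4,2,1,2], [1,4,2,1,1], [], [2,4,1], [], [], [], 
  [1], [1], [1], [1], [1], [1], [1], [1], [1], [1], [1], []]

def Ct2 : List (List ℕ) := [
  [], [2,4,2,1], [2,4], [4], [1,4,1], [1,1,4,2,4,2], [4,2], [4,2,4,1], [1,4,2,1], [2,1,4,2], [1,2,4,1], [2], 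
  [], [], [], [], [], [], [], [], [], [], [], [], 
  [1,1,2], [1,4,2,1,2], [], [2,4,1,2], [4,1,4], [1,4,2,4], [1,1,4,2], [4,1,1,1], [1,2,4,2], [1,1,4], [1,1,2,4], [4,2,1,2,4], 
  [1,1,2], [2,4,1,2], [4,1,1,1], [], [1,4,2,4], [1,1,4,2], [1,1,4], [4,2,1,2,4], [4,1,4], [1,2,4,2], [1,1,2,4], [1,4,2,1,2], 
  [1], [1], [1], [1], [], [1], [1], [1], [1], [1], [1], [1], 
  [2,1,2], [2,1,2], [2,1,2], [2,1,2], [2,1,2], [], [2,1,2], [2,1,2], [2,1,2], [2,1,2], [2,1,2], [2,1,2], 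
  [1,1,2], [4,1,1,1], [1,4,2,4], [1,2,4,2], [1,1,4,2], [4,2,1,2,4], [], [2,4,1,2], [1,1,4], [1,4,2,1,2], [1,1,2,4], [4,1,4], 
  [4,2,1,2], [], [1,2,4,1], [4,2,1,1], [1,1,4,1], [], [4,1,2,4], [], [2,4,1,2], [4,1,1,1], [1,2,4], [1,4,2,1,1], 
  [1,4], [1,1,4], [4,1,2,4], [2,1,1,4], [], [1,2,4,2,1], [1,2,4,1], [1,2,4,2], [], [], [4,1,2], [1,4,2,1,1], 
  [], [], [], [], [], [], [], [], [], [], [], [], 
  [1,4,2,1,2], [1,4,2,4,2], [1,4,2,4,1], [1,1,2,4], [4,2,1,2,4], [4,1,4], [1,4,2], [4,1], [2,1,2,4], [1,4,1,1], [], [1,4,2,1,1], 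
  [2], [4,2], [2,4,2,1], [1,2,4,1], [1,4,2,1], [4,2,4,1], [2,1,4,2], [1,4,1], [1,1,4,2,4,2], [2,4], [4], []]

def Ct3 : List (List ℕ) := [
  [], [2,4,2,1], [2,4], [4], [1,4,1], [1,1,4,2,4,2], [4,2], [4,2,4,1], [1,4,2,1], [2,1,4,2], [1,2,4,1], [2], 
  [], [], [], [], [], [], [], [], [], [], [], [], 
  [1,1,2], [1,4,2,1,2], [], [2,4,1,2], [4,1,4], [1,4,2,4], [1,1,4,2], [4,1,1,1], [1,2,4,2], [1,1,4], [1,1,2,4], [4,2,1,2,4], 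
  [2,4,1,2], [], [1,1,2,4], [], [1,1,2], [1,4,2,1,2], [1,2,4,2], [], [], [4,1,1,1], [], [], 
  [2,4,2], [4,1,2,4], [2,4,1,1], [1,4], [], [2,1,1,4], [4,2], [4], [1,2,4,2,1], [1,1,1,4], [2,4,2,4], [], 
  [1,4,2,4,1], [1,4,2,4], [4,1,2], [1,1,4,2], [1,4,2], [], [4,2,1,2,4], [1,1,4], [4,2,1,2], [1,2], [4,1,1,1], [1,4,2,1,2], 
  [], [], [], [], [], [], [], [], [], [], [], [], 
  [4,2,1,2], [2,4], [2], [1,4], [1,2,4,2,1], [4], [1,4,2], [], [4,2,4,1], [4,1,2], [4,2,4], [4,2], 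
  [1], [1,2,4,1,1], [1,4,1,1], [1,4,2,4,2], [1,4], [2,4,1,2], [4,1], [1,4,2,1,1], [], [1,2,4], [1,4,2,1,2], [1,2,4,2], 
  [4,1,4], [1,4,2,4], [1,4,2,1,2], [1,1,2,4], [2,4,1,2], [1,1,4], [4,1,1,1], [4,2,1,2,4], [1,1,4,2], [], [1,2,4,2], [1,1,2], 
  [1,4,2,1,2], [4,2,4], [1,4,2,4,1], [1,1,2,4], [4,2,1,2,4], [4,1,4], [2,4,1,2], [4,1,2], [2,4,2], [1,2,4,2,1], [], [1,4,2], 
  [], [], [], [], [], [], [], [], [], [], [], []]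

def Rt : List (List ℕ) := [
  [], [4,1,4], [1,4,1,4], [4,1,2], [1,1,4,2], [1,4,2,4,2], [], [2,1,2], [1,1,1], [1,1,4,2,4,2], [1,1,1], [2], 
  [1,2,4,1,1], [], [4,1,4], [4,2,4,1], [4,1,2], [1,4,2], [1,4,2,1], [], [2,1,2], [4,2,1,2], [1,1,4,2,4,2], [2], 
  [1,2,4], [1,2,4,1,1], [], [1,4,2,1,1], [4,2,4,1], [2,1,4,2], [1,2,4,2], [1,4,2,1], [], [2,1,2], [4,2,1,2], [2], 
  [4,2,1,2,4], [1,1,2,4], [4,2], [], [4,2,4,1], [4,2,1,2], [1,4,2,1,2], [1,4,2,1], [4,2,4], [4,2,1,1], [4,2,1,2,4], [1,2], 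
  [2,1,1,4], [4,2,1,2,4], [1,1,2,4], [1,1,2,4], [], [4,2,1], [1,4,2,1,1], [4,1], [1,1,1], [2,4,1,1], [1,2,4,1], [1,2], 
  [4,1,1,1], [1,4,2], [1,4], [4,2,1,2], [1,4,2,4,1], [], [1,2,4], [1], [1], [4,2,4,1], [1,2,4,2,1], [4,2,1,2], 
  [2], [2,4,1,1], [1,4,1], [4,1,1], [4,2], [1,4,1,4], [], [4,2,4], [1,2], [1,4,2,1], [4,2,4,1], [4,1], 
  [2,1,1], [2], [2,4,1,1], [2,4,1,1], [1,1,4,2,4,2], [1,1,2], [2,4], [], [4,2,4], [2,4,1,2], [2,4,2,1], [4,1], 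
  [1,2], [2,1,1], [2], [2,4], [1,2], [1,1,2], [1,1,1], [2,4], [], [2], [2,4,1,1], [4,2,1,2], 
  [4,1], [4,2,1,2], [2,1,1], [4,2,1,1], [1,4,2,1], [1,1,2,4], [2,4,1,1], [1,2,4,2,1], [], [], [1], [4], 
  [1,2], [4,1], [4,2,1,2], [4,1,2], [1,2,4,1], [2,4,1,2], [1,1,2,4], [2,4,2,1], [1,4,2,1], [1,1,2], [], [4], 
  [], [], [], [1,1,1], [1,1,1], [4,2,1,2], [1,1,4,2,4,2], [1,1,4,2,4,2], [4,2,1,2], [4,2,4,2], [4,2,4,2], []]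

/-- `w = (1 + N) Y A(1,3)` -/
def L30 : List (ℕ × ℕ × ℕ) := [(1, 1, 3), (1, 3, 9), (1, 9, 5), (1, 5, 4), (1, 4, 1), (1, 3, 5), (1, 5, 0), (1, 0, 7), (1, 7, 6), (1, 6, 3), (1, 7, 9), (1, 9, 4)
  , (1, 4, 0), (1, 0, 10), (1, 10, 7), (1, 8, 10), (1, 10, 5), (1, 5, 1), (1, 1, 0), (1, 0, 8), (1, 9, 0), (1, 0, 6), (1, 6, 2), (1, 2, 1)
  , (1, 1, 9), (1, 0, 2), (1, 2, 8), (1, 8, 4), (1, 4, 3), (1, 3, 0)]

def M1_2 : List (ℕ × ℕ × ℕ) := [(1, 0, 1), (2, 0, 2), (1, 0, 3), (1, 0, 4), (1, 0, 5), (2, 0, 6), (2, 0, 7), (2, 0, 8), (1, 0, 9), (2, 0, 10), (1, 1, 3), (2, 1, 4)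
  , (2, 1, 5), (1, 1, 8), (1, 1, 9), (2, 2, 3), (2, 2, 6), (1, 2, 8), (2, 3, 4), (1, 3, 5), (1, 3, 9), (2, 4, 5), (2, 4, 9), (1, 4, 10)
  , (1, 5, 7), (2, 5, 9), (2, 6, 7), (2, 6, 9), (2, 7, 10), (1, 8, 10)]

def gc2 : List (List ℕ × ℕ) := [([], 1), ([0], 2), ([3,0], 2), ([0,3], 1), ([3,1,0], 1), ([0,3,0], 1)
  , ([1,0,3], 1), ([2,0,3], 2), ([3,0,3], 2), ([0,3,0,0], 1), ([0,3,1,0], 2), ([0,0,3,0], 1)
  , ([2,0,3,0], 1), ([3,0,3,0], 1), ([2,0,0,3], 1), ([3,0,0,3], 1), ([3,1,0,3], 2), ([0,2,0,3], 2)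
  , ([1,2,0,3], 2), ([3,2,0,3], 1), ([0,3,0,3], 2), ([1,3,0,3], 1), ([0,0,3,0,0], 1), ([1,0,3,0,0], 1)
  , ([2,0,3,0,0], 1), ([0,0,3,1,0], 1), ([3,0,3,1,0], 1), ([1,0,0,3,0], 1), ([0,1,0,3,0], 2), ([3,1,0,3,0], 2)
  , ([1,2,0,3,0], 1), ([0,0,1,0,3], 2), ([1,1,2,0,3], 1)]

def rc2 : List (ℕ × ℕ × ℕ) := [(1, 11, 1), (1, 11, 3), (1, 11, 4), (1, 11, 5), (1, 11, 9), (2, 11, 2), (2, 11, 4), (2, 11, 5), (2, 11, 6), (2, 11, 10), (2, 0, 1), (2, 0, 8)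
  , (2, 0, 7), (2, 0, 9), (2, 0, 3), (1, 1, 7), (1, 1, 0), (1, 1, 9), (1, 1, 8), (1, 1, 3), (1, 0, 9), (1, 0, 6), (1, 0, 8), (1, 0, 4)
  , (1, 0, 5), (1, 1, 2), (1, 1, 9), (1, 1, 8), (1, 1, 10), (1, 1, 4), (1, 3, 10), (1, 3, 0), (1, 3, 5), (1, 3, 2), (1, 3, 9), (2, 9, 8)
  , (2, 9, 0), (2, 9, 1), (2, 9, 7), (2, 9, 3), (2, 6, 4), (2, 6, 11), (2, 6, 2), (2, 6, 5), (2, 6, 10), (1, 1, 0), (1, 1, 8), (1, 1, 10)
  , (1, 1, 5), (1, 1, 11), (2, 1, 10), (2, 1, 7), (2, 1, 9), (2, 1, 5), (2, 1, 6), (1, 2, 3), (1, 2, 10), (1, 2, 9), (1, 2, 0), (1, 2, 5)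
  , (1, 9, 6), (1, 9, 1), (1, 9, 7), (1, 9, 10), (1, 9, 5), (1, 6, 1), (1, 6, 2), (1, 6, 5), (1, 6, 3), (1, 6, 8), (1, 6, 7), (1, 6, 9)
  , (1, 6, 10), (1, 6, 1), (1, 6, 5), (1, 1, 5), (1, 1, 6), (1, 1, 3), (1, 1, 2), (1, 1, 8), (2, 10, 3), (2, 10, 11), (2, 10, 7), (2, 10, 1)
  , (2, 10, 2), (2, 10, 9), (2, 10, 1), (2, 10, 2), (2, 10, 8), (2, 10, 4), (2, 5, 2), (2, 5, 0), (2, 5, 3), (2, 5, 10), (2, 5, 9), (1, 2, 5)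
  , (1, 2, 11), (1, 2, 6), (1, 2, 4), (1, 2, 10), (2, 7, 5), (2, 7, 11), (2, 7, 3), (2, 7, 6), (2, 7, 0), (1, 7, 1), (1, 7, 11), (1, 7, 6)
  , (1, 7, 4), (1, 7, 8), (1, 2, 1), (1, 2, 9), (1, 2, 0), (1, 2, 6), (1, 2, 11), (1, 3, 0), (1, 3, 2), (1, 3, 8), (1, 3, 4), (1, 3, 11)
  , (1, 9, 0), (1, 9, 7), (1, 9, 10), (1, 9, 4), (1, 9, 11), (1, 2, 0), (1, 2, 8), (1, 2, 10), (1, 2, 6), (1, 2, 7), (1, 6, 3), (1, 6, 4)
  , (1, 6, 2), (1, 6, 7), (1, 6, 9), (1, 6, 9), (1, 6, 8), (1, 6, 5), (1, 6, 0), (1, 6, 4), (2, 4, 7), (2, 4, 6), (2, 4, 3), (2, 4, 9)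
  , (2, 4, 2), (2, 10, 9), (2, 10, 7), (2, 10, 1), (2, 10, 5), (2, 10, 6), (1, 5, 7), (1, 5, 3), (1, 5, 10), (1, 5, 8), (1, 5, 4), (2, 5, 1)
  , (2, 5, 2), (2, 5, 7), (2, 5, 4), (2, 5, 0), (1, 4, 6), (1, 4, 0), (1, 4, 9), (1, 4, 8), (1, 4, 5)]

def gd2 : List (List ℕ × ℕ) := [([1,0], 2), ([0,3], 2), ([1,0,0], 2), ([2,0,0], 1), ([3,1,0], 1), ([1,3,0], 1)
  , ([0,0,3], 1), ([2,0,3], 2), ([3,0,3], 2), ([3,1,0,0], 2), ([0,3,1,0], 2), ([0,0,3,0], 2)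
  , ([1,0,3,0], 2), ([2,0,0,3], 2), ([3,0,0,3], 1), ([0,1,0,3], 2), ([2,1,0,3], 1), ([3,1,0,3], 2)
  , ([0,3,0,3], 1), ([0,0,3,0,0], 2), ([2,0,3,0,0], 2), ([0,0,3,1,0], 1), ([2,0,3,1,0], 2), ([3,0,3,1,0], 1)
  , ([0,1,0,3,0], 2), ([2,1,0,3,0], 1), ([1,2,0,3,0], 2), ([1,1,2,0,3], 2)]

def rd2 : List (ℕ × ℕ × ℕ) := [(2, 11, 6), (2, 11, 1), (2, 11, 4), (2, 11, 7), (2, 11, 8), (2, 1, 7), (2, 1, 0), (2, 1, 9), (2, 1, 8), (2, 1, 3), (2, 11, 9), (2, 11, 4)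
  , (2, 11, 7), (2, 11, 10), (2, 11, 0), (1, 11, 3), (1, 11, 4), (1, 11, 2), (1, 11, 8), (1, 11, 0), (1, 0, 9), (1, 0, 6), (1, 0, 8), (1, 0, 4)
  , (1, 0, 5), (1, 0, 3), (1, 0, 2), (1, 0, 10), (1, 0, 5), (1, 0, 9), (1, 2, 8), (1, 2, 1), (1, 2, 10), (1, 2, 9), (1, 2, 4), (2, 9, 8)
  , (2, 9, 0), (2, 9, 1), (2, 9, 7), (2, 9, 3), (2, 6, 4), (2, 6, 11), (2, 6, 2), (2, 6, 5), (2, 6, 10), (2, 0, 2), (2, 0, 8), (2, 0, 4)
  , (2, 0, 3), (2, 0, 11), (2, 1, 10), (2, 1, 7), (2, 1, 9), (2, 1, 5), (2, 1, 6), (2, 2, 3), (2, 2, 10), (2, 2, 9), (2, 2, 0), (2, 2, 5)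
  , (2, 3, 6), (2, 3, 5), (2, 3, 2), (2, 3, 8), (2, 3, 1), (2, 6, 7), (2, 6, 9), (2, 6, 10), (2, 6, 1), (2, 6, 5), (1, 1, 5), (1, 1, 6)
  , (1, 1, 3), (1, 1, 2), (1, 1, 8), (2, 4, 0), (2, 4, 1), (2, 4, 6), (2, 4, 3), (2, 4, 10), (1, 3, 10), (1, 3, 0), (1, 3, 4), (1, 3, 6)
  , (1, 3, 1), (2, 10, 3), (2, 10, 11), (2, 10, 7), (2, 10, 1), (2, 10, 2), (1, 7, 5), (1, 7, 11), (1, 7, 3), (1, 7, 6), (1, 7, 0), (2, 2, 1)
  , (2, 2, 9), (2, 2, 0), (2, 2, 6), (2, 2, 11), (2, 9, 0), (2, 9, 7), (2, 9, 10), (2, 9, 4), (2, 9, 11), (1, 2, 0), (1, 2, 8), (1, 2, 10)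
  , (1, 2, 6), (1, 2, 7), (2, 9, 10), (2, 9, 8), (2, 9, 1), (2, 9, 4), (2, 9, 2), (1, 6, 3), (1, 6, 4), (1, 6, 2), (1, 6, 7), (1, 6, 9)
  , (2, 4, 7), (2, 4, 6), (2, 4, 3), (2, 4, 9), (2, 4, 2), (1, 3, 2), (1, 3, 4), (1, 3, 6), (1, 3, 7), (1, 3, 9), (2, 5, 7), (2, 5, 3)
  , (2, 5, 10), (2, 5, 8), (2, 5, 4), (2, 4, 6), (2, 4, 0), (2, 4, 9), (2, 4, 8), (2, 4, 5)]

def M1_1 : List (ℕ × ℕ × ℕ) := [(2, 0, 1), (2, 0, 2), (2, 0, 3), (2, 0, 4), (2, 0, 5), (2, 0, 6), (2, 0, 7), (2, 0, 8), (2, 0, 9), (2, 0, 10), (2, 1, 3), (2, 1, 4)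
  , (2, 1, 5), (2, 1, 8), (2, 1, 9), (2, 2, 3), (2, 2, 6), (2, 2, 8), (2, 3, 4), (2, 3, 5), (2, 3, 9), (2, 4, 5), (2, 4, 9), (2, 4, 10)
  , (2, 5, 7), (2, 5, 9), (2, 6, 7), (2, 6, 9), (2, 7, 10), (2, 8, 10)]

def gc1 : List (List ℕ × ℕ) := [([], 2), ([0], 1), ([3], 1), ([1,0], 2), ([3,0], 1), ([2,0,0], 1)
  , ([3,0,0], 1), ([3,1,0], 1), ([1,3,0], 1), ([0,0,3], 1), ([3,0,3], 2), ([3,1,0,0], 1)
  , ([0,3,0,0], 2), ([0,0,3,0], 2), ([1,0,3,0], 1), ([2,0,3,0], 2), ([3,0,3,0], 1), ([0,1,3,0], 2)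
  , ([2,0,0,3], 1), ([3,0,0,3], 2), ([0,1,0,3], 2), ([2,1,0,3], 2), ([3,1,0,3], 2), ([0,2,0,3], 2)
  , ([1,2,0,3], 2), ([3,2,0,3], 1), ([0,3,0,3], 1), ([2,0,3,0,0], 1), ([3,0,3,0,0], 1), ([0,0,3,1,0], 2)
  , ([1,0,3,1,0], 2), ([1,0,0,3,0], 1), ([0,1,0,3,0], 1), ([2,1,0,3,0], 1), ([3,1,0,3,0], 1), ([0,2,0,3,0], 1)
  , ([1,2,0,0,3], 2), ([0,0,1,0,3], 1)]

def rc1 : List (ℕ × ℕ × ℕ) := [(2, 11, 1), (2, 11, 3), (2, 11, 4), (2, 11, 5), (2, 11, 9), (1, 11, 2), (1, 11, 4), (1, 11, 5), (1, 11, 6), (1, 11, 10), (1, 0, 6), (1, 0, 10)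
  , (1, 0, 8), (1, 0, 7), (1, 0, 2), (2, 11, 6), (2, 11, 1), (2, 11, 4), (2, 11, 7), (2, 11, 8), (1, 0, 1), (1, 0, 8), (1, 0, 7), (1, 0, 9)
  , (1, 0, 3), (1, 11, 3), (1, 11, 4), (1, 11, 2), (1, 11, 8), (1, 11, 0), (1, 0, 10), (1, 0, 7), (1, 0, 9), (1, 0, 4), (1, 0, 11), (1, 0, 9)
  , (1, 0, 6), (1, 0, 8), (1, 0, 4), (1, 0, 5), (1, 0, 3), (1, 0, 2), (1, 0, 10), (1, 0, 5), (1, 0, 9), (1, 2, 8), (1, 2, 1), (1, 2, 10)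
  , (1, 2, 9), (1, 2, 4), (2, 6, 4), (2, 6, 11), (2, 6, 2), (2, 6, 5), (2, 6, 10), (1, 0, 2), (1, 0, 8), (1, 0, 4), (1, 0, 3), (1, 0, 11)
  , (2, 1, 0), (2, 1, 8), (2, 1, 10), (2, 1, 5), (2, 1, 11), (2, 2, 3), (2, 2, 10), (2, 2, 9), (2, 2, 0), (2, 2, 5), (1, 3, 6), (1, 3, 5)
  , (1, 3, 2), (1, 3, 8), (1, 3, 1), (2, 9, 6), (2, 9, 1), (2, 9, 7), (2, 9, 10), (2, 9, 5), (1, 6, 1), (1, 6, 2), (1, 6, 5), (1, 6, 3)
  , (1, 6, 8), (2, 1, 4), (2, 1, 3), (2, 1, 0), (2, 1, 6), (2, 1, 10), (1, 6, 7), (1, 6, 9), (1, 6, 10), (1, 6, 1), (1, 6, 5), (2, 1, 5)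
  , (2, 1, 6), (2, 1, 3), (2, 1, 2), (2, 1, 8), (2, 4, 0), (2, 4, 1), (2, 4, 6), (2, 4, 3), (2, 4, 10), (2, 3, 10), (2, 3, 0), (2, 3, 4)
  , (2, 3, 6), (2, 3, 1), (2, 10, 3), (2, 10, 11), (2, 10, 7), (2, 10, 1), (2, 10, 2), (2, 10, 9), (2, 10, 1), (2, 10, 2), (2, 10, 8), (2, 10, 4)
  , (2, 5, 2), (2, 5, 0), (2, 5, 3), (2, 5, 10), (2, 5, 9), (1, 2, 5), (1, 2, 11), (1, 2, 6), (1, 2, 4), (1, 2, 10), (1, 7, 5), (1, 7, 11)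
  , (1, 7, 3), (1, 7, 6), (1, 7, 0), (1, 9, 0), (1, 9, 7), (1, 9, 10), (1, 9, 4), (1, 9, 11), (1, 6, 11), (1, 6, 5), (1, 6, 3), (1, 6, 7)
  , (1, 6, 0), (2, 2, 0), (2, 2, 8), (2, 2, 10), (2, 2, 6), (2, 2, 7), (2, 3, 8), (2, 3, 10), (2, 3, 5), (2, 3, 4), (2, 3, 7), (1, 6, 9)
  , (1, 6, 8), (1, 6, 5), (1, 6, 0), (1, 6, 4), (1, 4, 7), (1, 4, 6), (1, 4, 3), (1, 4, 9), (1, 4, 2), (1, 3, 2), (1, 3, 4), (1, 3, 6)
  , (1, 3, 7), (1, 3, 9), (1, 10, 9), (1, 10, 7), (1, 10, 1), (1, 10, 5), (1, 10, 6), (1, 10, 7), (1, 10, 2), (1, 10, 8), (1, 10, 0), (1, 10, 6)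
  , (2, 7, 10), (2, 7, 5), (2, 7, 8), (2, 7, 3), (2, 7, 4), (1, 5, 1), (1, 5, 2), (1, 5, 7), (1, 5, 4), (1, 5, 0)]

def P1 : List (ℕ × ℕ × ℕ) := [(2, 0, 1), (2, 0, 2), (2, 0, 3), (2, 0, 4), (2, 0, 5), (2, 0, 6), (2, 0, 7), (2, 0, 8), (2, 0, 9), (2, 0, 10), (1, 1, 3), (1, 1, 4)
  , (2, 1, 5), (1, 1, 6), (2, 1, 7), (2, 1, 8), (2, 1, 9), (2, 1, 10), (2, 2, 3), (1, 2, 4), (2, 2, 5), (2, 2, 6), (2, 2, 7), (2, 2, 8)
  , (2, 2, 9), (2, 2, 10), (2, 3, 4), (2, 3, 5), (1, 3, 7), (2, 3, 8), (1, 3, 9), (2, 3, 10), (1, 4, 5), (2, 4, 6), (2, 4, 7), (2, 4, 9)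
  , (2, 4, 10), (2, 5, 6), (2, 5, 7), (1, 5, 8), (1, 5, 9), (2, 6, 7), (2, 6, 8), (2, 6, 9), (2, 6, 10), (2, 7, 8), (2, 7, 10), (2, 8, 9)
  , (2, 8, 10), (1, 9, 10)]

def gd1 : List (List ℕ × ℕ) := [([], 1), ([3], 1), ([0,0], 2), ([1,0], 2), ([0,3], 1), ([1,0,0], 2)
  , ([2,0,0], 1), ([3,0,0], 1), ([3,1,0], 1), ([0,3,0], 1), ([0,0,3], 2), ([3,0,3], 2)
  , ([3,1,0,0], 1), ([0,3,1,0], 1), ([1,0,3,0], 1), ([2,0,3,0], 1), ([3,0,3,0], 1), ([0,1,3,0], 2)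
  , ([2,0,0,3], 2), ([3,0,0,3], 2), ([1,1,0,3], 1), ([3,1,0,3], 1), ([0,2,0,3], 1), ([1,2,0,3], 1)
  , ([0,3,0,3], 1), ([1,3,0,3], 2), ([0,0,3,0,0], 2), ([1,0,3,0,0], 2), ([1,0,0,3,0], 1), ([0,1,0,3,0], 1)
  , ([1,1,0,3,0], 2), ([2,1,0,3,0], 1), ([0,2,0,3,0], 1), ([1,2,0,3,0], 2), ([0,0,1,3,0], 2), ([0,0,1,0,3], 1)
  ]

def rd1 : List (ℕ × ℕ × ℕ) := [(1, 11, 1), (1, 11, 3), (1, 11, 4), (1, 11, 5), (1, 11, 9), (1, 0, 6), (1, 0, 10), (1, 0, 8), (1, 0, 7), (1, 0, 2), (2, 11, 3), (2, 11, 5)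
  , (2, 11, 6), (2, 11, 7), (2, 11, 0), (2, 11, 6), (2, 11, 1), (2, 11, 4), (2, 11, 7), (2, 11, 8), (1, 1, 7), (1, 1, 0), (1, 1, 9), (1, 1, 8)
  , (1, 1, 3), (2, 11, 9), (2, 11, 4), (2, 11, 7), (2, 11, 10), (2, 11, 0), (1, 11, 3), (1, 11, 4), (1, 11, 2), (1, 11, 8), (1, 11, 0), (1, 0, 10)
  , (1, 0, 7), (1, 0, 9), (1, 0, 4), (1, 0, 11), (1, 0, 9), (1, 0, 6), (1, 0, 8), (1, 0, 4), (1, 0, 5), (1, 1, 2), (1, 1, 9), (1, 1, 8)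
  , (1, 1, 10), (1, 1, 4), (2, 2, 8), (2, 2, 1), (2, 2, 10), (2, 2, 9), (2, 2, 4), (2, 6, 4), (2, 6, 11), (2, 6, 2), (2, 6, 5), (2, 6, 10)
  , (1, 0, 2), (1, 0, 8), (1, 0, 4), (1, 0, 3), (1, 0, 11), (1, 1, 10), (1, 1, 7), (1, 1, 9), (1, 1, 5), (1, 1, 6), (1, 3, 6), (1, 3, 5)
  , (1, 3, 2), (1, 3, 8), (1, 3, 1), (1, 9, 6), (1, 9, 1), (1, 9, 7), (1, 9, 10), (1, 9, 5), (1, 6, 1), (1, 6, 2), (1, 6, 5), (1, 6, 3)
  , (1, 6, 8), (2, 1, 4), (2, 1, 3), (2, 1, 0), (2, 1, 6), (2, 1, 10), (2, 6, 7), (2, 6, 9), (2, 6, 10), (2, 6, 1), (2, 6, 5), (2, 1, 5)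
  , (2, 1, 6), (2, 1, 3), (2, 1, 2), (2, 1, 8), (1, 9, 8), (1, 9, 0), (1, 9, 4), (1, 9, 6), (1, 9, 5), (1, 10, 3), (1, 10, 11), (1, 10, 7)
  , (1, 10, 1), (1, 10, 2), (1, 10, 9), (1, 10, 1), (1, 10, 2), (1, 10, 8), (1, 10, 4), (1, 5, 2), (1, 5, 0), (1, 5, 3), (1, 5, 10), (1, 5, 9)
  , (1, 7, 5), (1, 7, 11), (1, 7, 3), (1, 7, 6), (1, 7, 0), (2, 7, 1), (2, 7, 11), (2, 7, 6), (2, 7, 4), (2, 7, 8), (2, 2, 1), (2, 2, 9)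
  , (2, 2, 0), (2, 2, 6), (2, 2, 11), (2, 3, 0), (2, 3, 2), (2, 3, 8), (2, 3, 4), (2, 3, 11), (1, 6, 9), (1, 6, 8), (1, 6, 5), (1, 6, 0)
  , (1, 6, 4), (1, 4, 7), (1, 4, 6), (1, 4, 3), (1, 4, 9), (1, 4, 2), (2, 9, 7), (2, 9, 4), (2, 9, 6), (2, 9, 2), (2, 9, 3), (1, 3, 2)
  , (1, 3, 4), (1, 3, 6), (1, 3, 7), (1, 3, 9), (1, 10, 7), (1, 10, 2), (1, 10, 8), (1, 10, 0), (1, 10, 6), (2, 5, 7), (2, 5, 3), (2, 5, 10)
  , (2, 5, 8), (2, 5, 4), (2, 2, 5), (2, 2, 4), (2, 2, 1), (2, 2, 7), (2, 2, 0), (1, 5, 1), (1, 5, 2), (1, 5, 7), (1, 5, 4), (1, 5, 0)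
  ]

/-- the letter 4 is `x t x⁻¹` -/
def aw : List ℕ := [0, 2, 0, 0, 0, 0, 0, 0, 0, 0, 0, 0]

/-- expansion of the letter 4 -/
def ex (c : ℕ) : List ℕ := if Nat.beq c 4 then aw else [c]

/-- expansion -/
def exw (c : List ℕ) : List ℕ := c.flatMap ex

/-- the word of the arc -/
def W (a b : ℕ) : List ℕ := Wt.getD (12 * a + b) []

/-- the tables of corrections -/
def Ct (l : ℕ) : List (List ℕ) := match l with
  | 0 => Ct0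
  | 1 => Ct1
  | 2 => Ct2
  | _ => Ct3

/-- the letters allowed in a correction -/
def okC (w : List ℕ) : Bool := w.all fun c => Nat.beq c 1 || Nat.beq c 2 || Nat.beq c 4

/-- the check of a letter on an arc -/
def stepB (l a b : ℕ) : Bool :=
  Nat.beq a b || (eqP (l :: W a b) (W (ap l a) (ap l b) ++ exw ((Ct l).getD (12 * a + b) [])) &&
    okC ((Ct l).getD (12 * a + b) []))

/-- the check of the reversal -/
def swapB (a b : ℕ) : Bool :=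
  Nat.beq a b || (eqP (W b a) (W a b ++ 3 :: exw (Rt.getD (12 * a + b) [])) && okC (Rt.getD (12 * a + b) []))

theorem step_ok : ∀ l : Fin 4, ∀ a b : Fin 12, stepB l a b = true := by decide +kernel

theorem swap_ok : ∀ a b : Fin 12, swapB a b = true := by decide +kernel

section

variable {V : Type*} [AddCommGroup V] (T : ℕ → V →+ V)

/-- the action of a word -/
def act (w : List ℕ) (v : V) : V := w.foldr (fun l v => T l v) v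

theorem act_nil (v : V) : act T [] v = v := rfl

theorem act_cons (l : ℕ) (w : List ℕ) (v : V) : act T (l :: w) v = T l (act T w v) := rfl

theorem act_append (w w' : List ℕ) (v : V) : act T (w ++ w') v = act T w (act T w' v) := List.foldr_append

theorem act_add (w : List ℕ) (u v : V) : act T w (u + v) = act T w u + act T w v := by
  induction w with
  | nil => rfl
  | cons l w ih => rw [act_cons, act_cons, act_cons, ih, map_add]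

theorem act_zero (w : List ℕ) : act T w 0 = 0 := by
  induction w with
  | nil => rfl
  | cons l w ih => rw [act_cons, ih, map_zero]

theorem act_nsmul (w : List ℕ) (n : ℕ) (v : V) : act T w (n • v) = n • act T w v := by
  induction w with
  | nil => rfl
  | cons l w ih => rw [act_cons, act_cons, ih, map_nsmul]

/-- the hypotheses -/
structure Sys (k : ℕ) (q : V) : Prop where
  three : ∀ v : V, (3 : ℕ) • v = 0
  rel : ∀ w w' : List ℕ, eqP w w' = true → ∀ v, act T w v = act T w' v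
  qy : T 1 q = q
  qt : T 2 q = q
  qa : act T aw q = q
  qf : T 3 q = k • q
  qP : act T [0] q + act T [0, 0, 0] q + act T [0, 0, 0, 0] q + act T [0, 0, 0, 0, 0] q +
    act T [0, 0, 0, 0, 0, 0, 0, 0, 0] q = 0

/-- the arc vector -/
def A (q : V) (a b : ℕ) : V := if a = b then 0 else act T (W a b) q

/-- formal sums of arcs: (coefficient, tail, head) -/
def ph (q : V) (L : List (ℕ × ℕ × ℕ)) : V := (L.map fun t => t.1 • A T q t.2.1 t.2.2).sum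

/-- the action on formal sums -/
def mp (l : ℕ) (L : List (ℕ × ℕ × ℕ)) : List (ℕ × ℕ × ℕ) := L.map fun t => (t.1, ap l t.2.1, ap l t.2.2)

/-- the action of a word on formal sums -/
def mpw (w : List ℕ) (L : List (ℕ × ℕ × ℕ)) : List (ℕ × ℕ × ℕ) := w.foldr mp L

/-- the points are `< 12` -/
def val (L : List (ℕ × ℕ × ℕ)) : Prop := ∀ t ∈ L, t.2.1 < 12 ∧ t.2.2 < 12

/-- the same, Boolean -/
def valB (L : List (ℕ × ℕ × ℕ)) : Bool := L.all fun t => Nat.blt t.2.1 12 && Nat.blt t.2.2 12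

theorem val_of {L : List (ℕ × ℕ × ℕ)} (h : valB L = true) : val L := by
  intro t ht
  have h1 := List.all_eq_true.1 h t ht
  rw [Bool.and_eq_true] at h1
  exact ⟨Nat.le_of_ble_eq_true h1.1, Nat.le_of_ble_eq_true h1.2⟩

/-- the coefficient of an arc -/
def cf (L : List (ℕ × ℕ × ℕ)) (a b : ℕ) : ℕ := (L.map fun t => bif Nat.beq t.2.1 a && Nat.beq t.2.2 b then t.1 else 0).sum

/-- equality modulo 3 and the reversal rule -/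
def chk (k : ℕ) (L L' : List (ℕ × ℕ × ℕ)) : Bool := (List.range 12).all fun a => (List.range 12).all fun b =>
  Nat.beq a b || Nat.beq ((cf L a b + k * cf L b a) % 3) ((cf L' a b + k * cf L' b a) % 3)

theorem beq_ff {x y : ℕ} (h : x ≠ y) : Nat.beq x y = false := by
  rcases e : Nat.beq x y with _ | _
  · rfl
  · exact absurd (Nat.eq_of_beq_eq_true e) h

theorem beq_ite (x a y b n : ℕ) : (bif Nat.beq x a && Nat.beq y b then n else 0) = if x = a ∧ y = b then n else 0 := by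
  by_cases ha : x = a
  · subst ha
    by_cases hb : y = b
    · subst hb
      rw [if_pos ⟨rfl, rfl⟩, Nat.beq_refl, Nat.beq_refl]
      rfl
    · rw [if_neg (fun h => hb h.2), beq_ff hb, Bool.and_false]
      rfl
  · rw [if_neg (fun h => ha h.1), beq_ff ha, Bool.false_and]
    rfl

/-- a translate of the relation -/
def rl (g : List ℕ) (m : ℕ) : List (ℕ × ℕ × ℕ) :=
  [(m, ev g 11, ev g 1), (m, ev g 11, ev g 3), (m, ev g 11, ev g 4), (m, ev g 11, ev g 5), (m, ev g 11, ev g 9)]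

end

namespace Sys

variable {V : Type*} [AddCommGroup V] {T : ℕ → V →+ V} {k : ℕ} {q : V} (h : Sys T k q)

include h

theorem fixC (c : List ℕ) (hc : okC c = true) : act T (exw c) q = q := by
  induction c with
  | nil => rfl
  | cons l c ih =>
    unfold okC at hc
    rw [List.all_cons, Bool.and_eq_true] at hc
    have e1 : exw (l :: c) = ex l ++ exw c := rfl
    rw [e1, act_append, ih hc.2]
    have h1 := hc.1
    rw [Bool.or_eq_true, Bool.or_eq_true] at h1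
    rcases h1 with (h1 | h1) | h1
    · rw [Nat.eq_of_beq_eq_true h1]; exact h.qy
    · rw [Nat.eq_of_beq_eq_true h1]; exact h.qt
    · rw [Nat.eq_of_beq_eq_true h1]; exact h.qa

theorem T_A {l a b : ℕ} (hl : l < 4) (ha : a < 12) (hb : b < 12) : T l (A T q a b) = A T q (ap l a) (ap l b) := by
  have inj : ∀ l : Fin 4, ∀ a b : Fin 12, ap l a = ap l b → a = b := by decide +kernel
  by_cases hab : a = b
  · subst hab
    unfold A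
    rw [if_pos rfl, if_pos rfl, map_zero]
  · have hab' : ap l a ≠ ap l b := fun h1 => hab (congrArg Fin.val (inj ⟨l, hl⟩ ⟨a, ha⟩ ⟨b, hb⟩ h1))
    unfold A
    rw [if_neg hab, if_neg hab', ← act_cons]
    have h1 := step_ok ⟨l, hl⟩ ⟨a, ha⟩ ⟨b, hb⟩
    unfold stepB at h1
    rw [Bool.or_eq_true, Bool.and_eq_true] at h1
    rcases h1 with h1 | ⟨h1, h2⟩
    · exact absurd (Nat.eq_of_beq_eq_true h1) hab
    · rw [h.rel _ _ h1, act_append, h.fixC _ h2]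

theorem A_swap {a b : ℕ} (ha : a < 12) (hb : b < 12) : A T q b a = k • A T q a b := by
  by_cases hab : a = b
  · subst hab
    unfold A
    rw [if_pos rfl, nsmul_zero]
  · unfold A
    rw [if_neg hab, if_neg (Ne.symm hab)]
    have h1 := swap_ok ⟨a, ha⟩ ⟨b, hb⟩
    unfold swapB at h1
    rw [Bool.or_eq_true, Bool.and_eq_true] at h1
    rcases h1 with h1 | ⟨h1, h2⟩
    · exact absurd (Nat.eq_of_beq_eq_true h1) hab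
    · rw [h.rel _ _ h1, act_append, act_cons, h.fixC _ h2, h.qf, act_nsmul]

omit h in
theorem ph_append (L L' : List (ℕ × ℕ × ℕ)) : ph T q (L ++ L') = ph T q L + ph T q L' := by
  unfold ph; rw [List.map_append, List.sum_append]

omit h in
theorem ph_cons (t : ℕ × ℕ × ℕ) (L : List (ℕ × ℕ × ℕ)) : ph T q (t :: L) = t.1 • A T q t.2.1 t.2.2 + ph T q L := by
  unfold ph; rw [List.map_cons, List.sum_cons]

omit h in
theorem val_mp {L : List (ℕ × ℕ × ℕ)} (l : ℕ) (hL : val L) : val (mp l L) := by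
  intro t ht
  obtain ⟨s, hs, rfl⟩ := List.mem_map.1 ht
  exact ⟨ap_lt l (hL s hs).1, ap_lt l (hL s hs).2⟩

omit h in
theorem val_mpw {L : List (ℕ × ℕ × ℕ)} (w : List ℕ) (hL : val L) : val (mpw w L) := by
  induction w with
  | nil => exact hL
  | cons l w ih => exact val_mp l ih

theorem T_ph {l : ℕ} (hl : l < 4) {L : List (ℕ × ℕ × ℕ)} (hL : val L) : T l (ph T q L) = ph T q (mp l L) := by
  induction L with
  | nil => show T l 0 = 0; exact map_zero _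
  | cons t L ih =>
    have e1 : mp l (t :: L) = (t.1, ap l t.2.1, ap l t.2.2) :: mp l L := rfl
    have h1 := hL t List.mem_cons_self
    rw [ph_cons, e1, ph_cons, map_add, map_nsmul, h.T_A hl h1.1 h1.2,
      ih (fun s hs => hL s (List.mem_cons_of_mem _ hs))]

theorem act_ph {w : List ℕ} (hw : ∀ l ∈ w, l < 4) {L : List (ℕ × ℕ × ℕ)} (hL : val L) :
    act T w (ph T q L) = ph T q (mpw w L) := by
  induction w with
  | nil => rfl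
  | cons l w ih =>
    rw [act_cons, ih (fun s hs => hw s (List.mem_cons_of_mem _ hs)),
      h.T_ph (hw l List.mem_cons_self) (val_mpw w hL)]
    rfl

theorem act_A {w : List ℕ} (hw : ∀ l ∈ w, l < 4) {a b : ℕ} (ha : a < 12) (hb : b < 12) :
    act T w (A T q a b) = A T q (ev w a) (ev w b) := by
  induction w with
  | nil => rfl
  | cons l w ih =>
    rw [act_cons, ih (fun s hs => hw s (List.mem_cons_of_mem _ hs)),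
      h.T_A (hw l List.mem_cons_self) (ev_lt w ha) (ev_lt w hb)]
    rfl

omit h in
theorem ph_eq (L : List (ℕ × ℕ × ℕ)) (hL : val L) :
    ph T q L = ∑ a ∈ Finset.range 12, ∑ b ∈ Finset.range 12, cf L a b • A T q a b := by
  induction L with
  | nil =>
    show (0 : V) = _
    refine (Finset.sum_eq_zero fun a _ => Finset.sum_eq_zero fun b _ => ?_).symm
    exact zero_nsmul _
  | cons t L ih =>
    rw [ph_cons, ih (fun s hs => hL s (List.mem_cons_of_mem _ hs))]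
    have h1 := hL t List.mem_cons_self
    have e1 : ∀ a b, cf (t :: L) a b = (if t.2.1 = a ∧ t.2.2 = b then t.1 else 0) + cf L a b := by
      intro a b
      unfold cf
      rw [List.map_cons, List.sum_cons, beq_ite]
    have e2 : ∀ a b, cf (t :: L) a b • A T q a b =
        (if t.2.1 = a ∧ t.2.2 = b then t.1 • A T q a b else 0) + cf L a b • A T q a b := by
      intro a b
      rw [e1, add_nsmul]
      congr 1
      split_ifs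
      · rfl
      · exact zero_nsmul _
    simp only [e2, Finset.sum_add_distrib]
    congr 1
    rw [Finset.sum_eq_single t.2.1, Finset.sum_eq_single t.2.2, if_pos ⟨rfl, rfl⟩]
    · intro b _ hb
      rw [if_neg (fun h2 => hb h2.2.symm)]
    · intro h2; exact absurd (Finset.mem_range.2 h1.2) h2
    · intro a _ ha
      refine Finset.sum_eq_zero fun b _ => ?_
      rw [if_neg (fun h2 => ha h2.1.symm)]
    · intro h2; exact absurd (Finset.mem_range.2 h1.1) h2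

theorem mod3 {a b : ℕ} (hab : a % 3 = b % 3) (v : V) : a • v = b • v := by
  rw [← Nat.div_add_mod a 3, ← Nat.div_add_mod b 3, hab, add_nsmul, add_nsmul, mul_comm, mul_nsmul', mul_comm 3 (b / 3),
    mul_nsmul', h.three, nsmul_zero, nsmul_zero]

theorem two_ph (L : List (ℕ × ℕ × ℕ)) (hL : val L) :
    2 • ph T q L = ∑ a ∈ Finset.range 12, ∑ b ∈ Finset.range 12, (cf L a b + k * cf L b a) • A T q a b := by
  rw [two_nsmul]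
  nth_rewrite 2 [ph_eq L hL]
  rw [ph_eq L hL, Finset.sum_comm (s := Finset.range 12) (t := Finset.range 12) (f := fun a b => cf L a b • A T q a b)]
  rw [← Finset.sum_comm (s := Finset.range 12) (t := Finset.range 12) (f := fun a b => cf L a b • A T q a b)]
  have e1 : (∑ a ∈ Finset.range 12, ∑ b ∈ Finset.range 12, cf L a b • A T q a b) =
      ∑ a ∈ Finset.range 12, ∑ b ∈ Finset.range 12, (k * cf L b a) • A T q a b := by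
    rw [Finset.sum_comm]
    refine Finset.sum_congr rfl fun a ha => Finset.sum_congr rfl fun b hb => ?_
    rw [h.A_swap (Finset.mem_range.1 ha) (Finset.mem_range.1 hb), ← mul_nsmul', mul_comm]
  nth_rewrite 2 [e1]
  rw [← Finset.sum_add_distrib]
  refine Finset.sum_congr rfl fun a _ => ?_
  rw [← Finset.sum_add_distrib]
  exact Finset.sum_congr rfl fun b _ => (add_nsmul _ _ _).symm

/-- **equality of formal sums** -/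
theorem ph_congr {L L' : List (ℕ × ℕ × ℕ)} (hL : val L) (hL' : val L') (hc : chk k L L' = true) :
    ph T q L = ph T q L' := by
  have h1 : 2 • ph T q L = 2 • ph T q L' := by
    rw [h.two_ph L hL, h.two_ph L' hL']
    refine Finset.sum_congr rfl fun a ha => Finset.sum_congr rfl fun b hb => ?_
    by_cases hab : a = b
    · subst hab
      have : A T q a a = 0 := if_pos rfl
      rw [this, nsmul_zero, nsmul_zero]
    · refine h.mod3 ?_ _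
      have h2 := List.all_eq_true.1 (List.all_eq_true.1 hc a (List.mem_range.2 (Finset.mem_range.1 ha))) b
        (List.mem_range.2 (Finset.mem_range.1 hb))
      rw [Bool.or_eq_true] at h2
      rcases h2 with h2 | h2
      · exact absurd (Nat.eq_of_beq_eq_true h2) hab
      · exact Nat.eq_of_beq_eq_true h2
  have h2 : ∀ v : V, 2 • (2 • v) = v := fun v => by
    rw [← mul_nsmul', show 2 * 2 = 3 + 1 from rfl, add_nsmul, h.three, zero_add, one_nsmul]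
  rw [← h2 (ph T q L), h1, h2]

omit h in
theorem A_inf {i : ℕ} (hi : i < 11) (hw : W 11 i = List.replicate i 0) : A T q 11 i = act T (List.replicate i 0) q := by
  unfold A
  rw [if_neg (by omega), hw]

/-- a translate of the relation vanishes -/
theorem ph_rl {g : List ℕ} (hg : ∀ l ∈ g, l < 4) (m : ℕ) : ph T q (rl g m) = 0 := by
  have h0 : ph T q [(1, 11, 1), (1, 11, 3), (1, 11, 4), (1, 11, 5), (1, 11, 9)] = 0 := by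
    have h1 := h.qP
    unfold ph
    simp only [List.map_cons, List.map_nil, List.sum_cons, List.sum_nil, one_nsmul, add_zero]
    rw [A_inf (i := 1) (by norm_num) rfl, A_inf (i := 3) (by norm_num) rfl, A_inf (i := 4) (by norm_num) rfl,
      A_inf (i := 5) (by norm_num) rfl, A_inf (i := 9) (by norm_num) rfl, ← h1]
    simp only [← add_assoc]
    rfl
  have h1 := h.act_ph hg (L := [(1, 11, 1), (1, 11, 3), (1, 11, 4), (1, 11, 5), (1, 11, 9)])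
    (val_of (by decide +kernel))
  rw [h0, act_zero] at h1
  have h2 : ∀ (w : List ℕ) (a b c d e : ℕ), mpw w [(1, 11, a), (1, 11, b), (1, 11, c), (1, 11, d), (1, 11, e)] =
      [(1, ev w 11, ev w a), (1, ev w 11, ev w b), (1, ev w 11, ev w c), (1, ev w 11, ev w d), (1, ev w 11, ev w e)] := by
    intro w a b c d e
    induction w with
    | nil => rfl
    | cons l w ih =>
      show mp l (mpw w _) = _
      rw [ih]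
      rfl
  rw [h2] at h1
  have h3 : ph T q (rl g m) = m • ph T q [(1, ev g 11, ev g 1), (1, ev g 11, ev g 3), (1, ev g 11, ev g 4),
      (1, ev g 11, ev g 5), (1, ev g 11, ev g 9)] := by
    unfold ph rl
    simp only [List.map_cons, List.map_nil, List.sum_cons, List.sum_nil, one_nsmul, nsmul_add, nsmul_zero]
  rw [h3, ← h1, nsmul_zero]

theorem ph_rels {G : List (List ℕ × ℕ)} {R : List (ℕ × ℕ × ℕ)} (hG : ∀ p ∈ G, ∀ l ∈ p.1, l < 4)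
    (hR : (G.flatMap fun p => rl p.1 p.2) = R) : ph T q R = 0 := by
  rw [← hR]
  clear hR
  induction G with
  | nil => rfl
  | cons p G ih =>
    rw [List.flatMap_cons, ph_append, h.ph_rl (hG p List.mem_cons_self), ih (fun s hs => hG s (List.mem_cons_of_mem _ hs)),
      add_zero]

end Sys

end Cfsg.Agent.H732.E8T
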